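import Cfsg.Agent.Lib.Spor.FpfMod.Irreducible

/-!
Consequences of the fixed point theorem of Shult type for coprime actions on finite `p`-groups:
reduction along an invariant series.
-/

set_option autoImplicit false
set_option linter.style.haveILetI false
set_option linter.unusedSectionVars false

universe u v

namespace Cfsg.Agent.Spor.FpfMod

open scoped commutatorElement

/-- The automorphisms stabilising a subgroup. -/
def stabAut {V : Type u} [Group V] (W : Subgroup V) : Subgroup (MulAut V) where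
  carrier := {σ | ∀ x, σ x ∈ W ↔ x ∈ W}
  one_mem' _ := Iff.rfl
  mul_mem' {σ τ} hσ hτ x := (hσ (τ x)).trans (hτ x)
  inv_mem' {σ} hσ x := by
    have := hσ (σ⁻¹ x)
    rw [MulAut.apply_inv_self] at this
    exact this.symm

theorem mem_stabAut {V : Type u} [Group V] [Finite V] {W : Subgroup V} {σ : MulAut V}
    (h : ∀ x ∈ W, σ x ∈ W) : σ ∈ stabAut W := by
  have he : W.map σ.toMonoidHom = W :=
    Subgroup.eq_of_le_of_card_ge (by rintro _ ⟨x, hx, rfl⟩; exact h x hx)
      (Subgroup.card_map_of_injective σ.injective).ge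
  intro x
  refine ⟨fun hx => ?_, h x⟩
  rw [← he] at hx
  obtain ⟨y, hy, hxy⟩ := hx
  rwa [← σ.injective hxy]

/-- Restriction to an invariant subgroup. -/
def resHom {V : Type u} [Group V] (W : Subgroup V) : stabAut W →* MulAut W where
  toFun σ :=
    { toFun := fun x => ⟨(σ : MulAut V) x, (σ.2 x).2 x.2⟩
      invFun := fun x => ⟨(σ : MulAut V).symm x, (σ.2 _).1 (by rw [MulEquiv.apply_symm_apply]; exact x.2)⟩
      left_inv := fun x => Subtype.ext ((σ : MulAut V).symm_apply_apply x)
      right_inv := fun x => Subtype.ext ((σ : MulAut V).apply_symm_apply x)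
      map_mul' := fun x y => Subtype.ext (map_mul (σ : MulAut V) (x : V) y) }
  map_one' := rfl
  map_mul' _ _ := rfl

/-- The automorphism induced on the quotient by an invariant normal subgroup. -/
def quotHom {V : Type u} [Group V] (W : Subgroup V) [W.Normal] : stabAut W →* MulAut (V ⧸ W) where
  toFun σ := QuotientGroup.congr W W (σ : MulAut V) (by
    ext x
    refine ⟨?_, fun hx => ⟨(σ : MulAut V).symm x, (σ.2 _).1 ?_, ?_⟩⟩
    · rintro ⟨y, hy, rfl⟩
      exact (σ.2 y).2 hy
    · rw [MulEquiv.apply_symm_apply]; exact hx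
    · exact (σ : MulAut V).apply_symm_apply x)
  map_one' := MulEquiv.ext fun q => QuotientGroup.induction_on q fun _ => rfl
  map_mul' _ _ := MulEquiv.ext fun q => QuotientGroup.induction_on q fun _ => rfl

/-- The automorphism fixes only the identity on the quotient. -/
theorem fpf_quotient {V : Type u} [Group V] [Finite V] {W : Subgroup V} {b : MulAut V}
    (hW : ∀ w ∈ W, b w ∈ W) (hfix : ∀ v, b v = v → v = 1) {v : V} (hv : v⁻¹ * b v ∈ W) : v ∈ W := by
  let f : W → W := fun w => ⟨(w : V)⁻¹ * b w, W.mul_mem (W.inv_mem w.2) (hW w w.2)⟩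
  have hf : Function.Injective f := by
    intro x y hxy
    have e : (x : V)⁻¹ * b x = (y : V)⁻¹ * b y := congrArg Subtype.val hxy
    have h1 : b ((y : V) * (x : V)⁻¹) = (y : V) * (x : V)⁻¹ := by
      rw [map_mul, map_inv, show b (y : V) = (y : V) * ((x : V)⁻¹ * b x) by rw [e, mul_inv_cancel_left]]
      group
    exact Subtype.ext (mul_inv_eq_one.1 (hfix _ h1)).symm
  obtain ⟨w, hw⟩ := (Finite.injective_iff_surjective.1 hf) ⟨_, hv⟩
  have e : (w : V)⁻¹ * b w = v⁻¹ * b v := congrArg Subtype.val hw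
  have h1 : b (v * (w : V)⁻¹) = v * (w : V)⁻¹ := by
    rw [map_mul, map_inv, show b (w : V) = (w : V) * (v⁻¹ * b v) by rw [← e, mul_inv_cancel_left]]
    group
  rw [mul_inv_eq_one.1 (hfix _ h1)]
  exact w.2

variable {G : Type v} [Group G] [Finite G] {p : ℕ} [Fact p.Prime] {a : MulAut G} {r : ℕ}

/-- An element whose image has order prime to `p` and which acts trivially in every irreducible
situation acts trivially. -/
theorem eq_one_of_irreducible {V : Type u} [Group V] [Finite V] (hV : IsPGroup p V) {b : MulAut V}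
    {ρ : G →* MulAut V} (h : Act a b ρ r) {x : G} {m : ℕ} (hm : m.Coprime p) (hxm : ρ x ^ m = 1)
    (hirr : ∀ (W : Type u) [CommGroup W] [Finite W] [Nontrivial W] (b' : MulAut W)
      (ρ' : G →* MulAut W), (∀ w : W, w ^ p = 1) → Act a b' ρ' r → Irr b' ρ' → ρ.ker ≤ ρ'.ker →
      ρ' x = 1) : ρ x = 1 := by
  induction hn : Nat.card V using Nat.strong_induction_on generalizing V with
  | _ n ih =>
    classical
    rcases subsingleton_or_nontrivial V with hs | hs
    · exact MulEquiv.ext fun v => Subsingleton.elim _ _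
    haveI := hV.center_nontrivial
    let Z : Subgroup V :=
      { carrier := {z | z ∈ Subgroup.center V ∧ z ^ p = 1}
        one_mem' := ⟨one_mem _, one_pow p⟩
        mul_mem' := fun {y z} hy hz => ⟨mul_mem hy.1 hz.1, by
          rw [(show Commute y z from (Subgroup.mem_center_iff.1 hy.1 z).symm).mul_pow, hy.2, hz.2,
            one_mul]⟩
        inv_mem' := fun {y} hy => ⟨inv_mem hy.1, by rw [inv_pow, hy.2, inv_one]⟩ }
    have hZinv : ∀ (σ : MulAut V), ∀ z ∈ Z, σ z ∈ Z := fun σ z hz =>
      ⟨Subgroup.mem_center_iff.2 fun y => by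
        obtain ⟨y, rfl⟩ := σ.surjective y
        rw [← map_mul, ← map_mul, Subgroup.mem_center_iff.1 hz.1 y], by
        rw [← map_pow, hz.2, map_one]⟩
    have hZne : Z ≠ ⊥ := by
      intro hb
      obtain ⟨c, hc⟩ := exists_ne (1 : Subgroup.center V)
      obtain ⟨k, hk⟩ := hV (c : V)
      have hcV : (c : V) ≠ 1 := fun e => hc (Subtype.ext e)
      obtain ⟨j, hj, hj'⟩ : ∃ j, (c : V) ^ p ^ j ≠ 1 ∧ (c : V) ^ p ^ (j + 1) = 1 := by
        by_contra hne
        push Not at hne
        have : ∀ j, (c : V) ^ p ^ j ≠ 1 := fun j => by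
          induction j with
          | zero => simpa using hcV
          | succ j ihj => exact hne j ihj
        exact this k hk
      refine hj ?_
      have : (c : V) ^ p ^ j ∈ Z := ⟨Subgroup.pow_mem _ c.2 _, by rw [← pow_mul, ← pow_succ, hj']⟩
      rwa [hb, Subgroup.mem_bot] at this
    -- a minimal invariant subgroup
    let Inv : Set (Subgroup V) :=
      {W | W ≠ ⊥ ∧ W ≤ Z ∧ (∀ g, ∀ w ∈ W, ρ g w ∈ W) ∧ ∀ w ∈ W, b w ∈ W}
    obtain ⟨W, ⟨hWne, hWZ, hWg, hWb⟩, hWmin⟩ := Set.exists_min_image Inv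
      (fun W => Nat.card W) (Set.toFinite _)
      ⟨Z, hZne, le_rfl, fun g => hZinv (ρ g), hZinv b⟩
    haveI : W.Normal := ⟨fun w hw g => by
      rw [Subgroup.mem_center_iff.1 (hWZ hw).1 g, mul_inv_cancel_right]; exact hw⟩
    letI : CommGroup W :=
      { (inferInstance : Group W) with
        mul_comm := fun y z => Subtype.ext (Subgroup.mem_center_iff.1 (hWZ z.2).1 y) }
    haveI : Nontrivial W := (Subgroup.nontrivial_iff_ne_bot W).2 hWne
    have hbS : b ∈ stabAut W := mem_stabAut hWb
    let ρS : G →* stabAut W := ρ.codRestrict _ fun g => mem_stabAut (hWg g)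
    have hcompatS : ∀ g, ρS (a g) = ⟨b, hbS⟩ * ρS g * (⟨b, hbS⟩ : stabAut W)⁻¹ := fun g =>
      Subtype.ext (h.compat g)
    have hbpowS : (⟨b, hbS⟩ : stabAut W) ^ r = 1 := Subtype.ext h.bpow
    have hker : ∀ {M : Type u} [Group M] (φ : stabAut W →* M), ρ.ker ≤ (φ.comp ρS).ker := by
      intro M _ φ g hg
      have : ρS g = 1 := Subtype.ext hg
      show φ (ρS g) = 1
      rw [this, map_one]
    -- on the subgroup
    have hW1 : resHom W (ρS x) = 1 := by
      refine hirr W (resHom W ⟨b, hbS⟩) ((resHom W).comp ρS)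
        (fun w => Subtype.ext (by rw [SubgroupClass.coe_pow]; exact (hWZ w.2).2))
        ⟨fun g => by
          show resHom W (ρS (a g)) = resHom W ⟨b, hbS⟩ * resHom W (ρS g) * (resHom W ⟨b, hbS⟩)⁻¹
          rw [hcompatS, map_mul, map_mul, map_inv],
          by rw [← map_pow, hbpowS, map_one],
          fun w hw => Subtype.ext (h.fpf _ (congrArg Subtype.val hw))⟩ ?_ (hker _)
      intro U hUg hUb
      by_cases hU : U = ⊥
      · exact Or.inl hU
      right
      have hUne : U.map W.subtype ≠ ⊥ := fun e =>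
        hU ((Subgroup.map_eq_bot_iff_of_injective U W.subtype_injective).1 e)
      have hle : U.map W.subtype ≤ W := Subgroup.map_subtype_le U
      have hmin := hWmin (U.map W.subtype) ⟨hUne, hle.trans hWZ,
        by rintro g _ ⟨w, hw, rfl⟩; exact ⟨_, hUg g w hw, rfl⟩,
        by rintro _ ⟨w, hw, rfl⟩; exact ⟨_, hUb w hw, rfl⟩⟩
      have he := Subgroup.eq_of_le_of_card_ge hle hmin
      refine eq_top_iff.2 fun w _ => ?_
      have hw : (w : V) ∈ U.map W.subtype := he.ge w.2
      exact (Subgroup.mem_map_iff_mem W.subtype_injective).1 hw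
    -- on the quotient
    have hW2 : quotHom W (ρS x) = 1 := by
      have hlt : Nat.card (V ⧸ W) < n := by
        rw [← hn, Subgroup.card_eq_card_quotient_mul_card_subgroup W]
        exact lt_mul_of_one_lt_right Nat.card_pos Finite.one_lt_card
      refine ih _ hlt (hV.to_quotient W) (b := quotHom W ⟨b, hbS⟩) (ρ := (quotHom W).comp ρS)
        ⟨fun g => by
          show quotHom W (ρS (a g)) =
            quotHom W ⟨b, hbS⟩ * quotHom W (ρS g) * (quotHom W ⟨b, hbS⟩)⁻¹
          rw [hcompatS, map_mul, map_mul, map_inv],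
          by rw [← map_pow, hbpowS, map_one], fun q => ?_⟩ ?_ ?_ rfl
      · induction q using QuotientGroup.induction_on with
        | _ v =>
          intro hq
          refine (QuotientGroup.eq_one_iff v).2 (fpf_quotient hWb h.fpf ?_)
          exact QuotientGroup.eq.1 hq.symm
      · show quotHom W (ρS x) ^ m = 1
        rw [← map_pow, show ρS x ^ m = 1 from Subtype.ext hxm, map_one]
      · intro M _ _ _ b' ρ' h1 h2 h3 h4
        exact hirr M b' ρ' h1 h2 h3 ((hker _).trans h4)
    refine MulEquiv.ext fun v => ?_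
    have hc : v⁻¹ * ρ x v ∈ W := by
      refine QuotientGroup.eq.1 ?_
      exact (congrArg (fun σ : MulAut (V ⧸ W) => σ (v : V ⧸ W)) hW2).symm
    obtain ⟨c, hcW, hce⟩ : ∃ c ∈ W, ρ x v = v * c := ⟨_, hc, (mul_inv_cancel_left v _).symm⟩
    have hcfix : ρ x c = c :=
      congrArg (fun σ : MulAut W => ((σ ⟨c, hcW⟩ : W) : V)) hW1
    have hpw : ∀ k : ℕ, (ρ x ^ k) v = v * c ^ k := by
      intro k
      induction k with
      | zero => simp
      | succ k ihk => rw [pow_succ', MulAut.mul_apply, ihk, map_mul, map_pow, hcfix, hce, pow_succ',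
          mul_assoc]
    have h1 := hpw m
    rw [hxm, MulAut.one_apply, left_eq_mul] at h1
    have hc1 : c = 1 := by
      obtain ⟨k, hk⟩ := hV c
      rw [← orderOf_eq_one_iff]
      exact Nat.eq_one_of_dvd_coprimes (Nat.Coprime.pow_right k hm)
        (orderOf_dvd_of_pow_eq_one h1) (orderOf_dvd_of_pow_eq_one hk)
    rw [MulAut.one_apply, hce, hc1, mul_one]

/-- An element of order a power of a prime `q` and also a power of another prime is trivial. -/
theorem eq_one_of_pow_pow {M : Type*} [Monoid M] {x : M} {m n : ℕ} (hmn : m.Coprime n) (i j : ℕ)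
    (hi : x ^ m ^ i = 1) (hj : x ^ n ^ j = 1) : x = 1 :=
  orderOf_eq_one_iff.1 (Nat.eq_one_of_dvd_coprimes ((hmn.pow_left i).pow_right j)
    (orderOf_dvd_of_pow_eq_one hi) (orderOf_dvd_of_pow_eq_one hj))

section

variable (hShult : ShultStatement.{u}) (hr : r.Prime) (hcop : ¬ r ∣ Nat.card G)
variable {V : Type u} [Group V] [Finite V] {b : MulAut V} {ρ : G →* MulAut V}

include hShult hr hcop

/-- For a faithful action, the normal closure of a `p`-subgroup on which the automorphism fixes
only the identity is a `p`-group. -/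
theorem isPGroup_normalClosure (hp : p ≠ 2) (hV : IsPGroup p V) (h : Act a b ρ r)
    (hinj : Function.Injective ρ) {P : Subgroup G} (hP : IsPGroup p P) (hPa : ∀ g ∈ P, a g ∈ P)
    (hPfix : ∀ g ∈ P, a g = g → g = 1) : IsPGroup p (Subgroup.normalClosure (P : Set G)) := by
  rintro ⟨y, hy⟩
  obtain ⟨k, m, hm, hord⟩ := Nat.exists_eq_pow_mul_and_not_dvd
    (orderOf_pos y).ne' p (Fact.out : p.Prime).ne_one
  refine ⟨k, Subtype.ext (?_ : y ^ p ^ k = 1)⟩
  refine hinj ?_
  rw [map_one]
  refine eq_one_of_irreducible hV h (x := y ^ p ^ k) (m := m)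
    ((Fact.out : p.Prime).coprime_iff_not_dvd.2 hm).symm
    (by rw [← map_pow, ← pow_mul, ← hord, pow_orderOf_eq_one, map_one]) ?_
  intro W _ _ _ b' ρ' hexp h' hirr _
  obtain ⟨h2, -⟩ := irreducible_image hShult hr hcop hexp h' hirr
  have hle : Subgroup.normalClosure (P : Set G) ≤ ρ'.ker := by
    refine Subgroup.normalClosure_le_normal fun z hz => ?_
    let f : P → P := fun w => ⟨(w : G)⁻¹ * a w, P.mul_mem (P.inv_mem w.2) (hPa w w.2)⟩
    have hf : Function.Injective f := by
      intro w w' hww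
      have e : (w : G)⁻¹ * a w = (w' : G)⁻¹ * a w' := congrArg Subtype.val hww
      have h1 : a ((w' : G) * (w : G)⁻¹) = (w' : G) * (w : G)⁻¹ := by
        rw [map_mul, map_inv,
          show a (w' : G) = (w' : G) * ((w : G)⁻¹ * a w) by rw [e, mul_inv_cancel_left]]
        group
      exact Subtype.ext (mul_inv_eq_one.1 (hPfix _ (P.mul_mem w'.2 (P.inv_mem w.2)) h1)).symm
    obtain ⟨w, hw⟩ := Finite.injective_iff_surjective.1 hf ⟨z, hz⟩
    have hz2 : z ∈ comClosure a :=
      Subgroup.subset_closure ⟨w, congrArg Subtype.val hw⟩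
    obtain ⟨i, hi⟩ := h2 z hz2
    obtain ⟨j, hj⟩ := hP ⟨z, hz⟩
    refine eq_one_of_pow_pow ((Nat.coprime_primes Nat.prime_two (Fact.out : p.Prime)).2 (Ne.symm hp))
      i j hi ?_
    rw [← map_pow, show z ^ p ^ j = 1 from congrArg Subtype.val hj, map_one]
  exact hle (Subgroup.pow_mem _ hy _)

/-- The automorphism centralises invariant `q`-subgroups for odd primes `q` other than `p`. -/
theorem fixed_of_odd (hV : IsPGroup p V) (h : Act a b ρ r) (hinj : Function.Injective ρ)
    {q : ℕ} (hq : q.Prime) (hq2 : q ≠ 2) (hqp : q ≠ p) {L : Subgroup G} (hL : IsPGroup q L)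
    (hLa : ∀ g ∈ L, a g ∈ L) {g : G} (hg : g ∈ L) : a g = g := by
  obtain ⟨j, hj⟩ := hL ⟨g⁻¹ * a g, L.mul_mem (L.inv_mem hg) (hLa g hg)⟩
  have hjx : (g⁻¹ * a g) ^ q ^ j = 1 := congrArg Subtype.val hj
  refine (inv_mul_eq_one.1 (hinj ?_)).symm
  rw [map_one]
  refine eq_one_of_irreducible hV h (m := q ^ j)
    (((Nat.coprime_primes hq (Fact.out : p.Prime)).2 hqp).pow_left j)
    (by rw [← map_pow, hjx, map_one]) ?_
  intro W _ _ _ b' ρ' hexp h' hirr _
  obtain ⟨h2, -⟩ := irreducible_image hShult hr hcop hexp h' hirr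
  obtain ⟨i, hi⟩ := h2 _ (Subgroup.subset_closure ⟨g, rfl⟩)
  exact eq_one_of_pow_pow ((Nat.coprime_primes Nat.prime_two hq).2 (Ne.symm hq2)) i j hi
    (by rw [← map_pow, hjx, map_one])

/-- In a faithful coprime action the squares of the commutators with the automorphism are central
in the subgroup they generate. -/
theorem sq_comm (hG : ¬ p ∣ Nat.card G) (hV : IsPGroup p V) (h : Act a b ρ r)
    (hinj : Function.Injective ρ) {x y : G} (hx : x ∈ comClosure a) (hy : y ∈ comClosure a) :
    x ^ 2 * y = y * x ^ 2 := by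
  refine commutatorElement_eq_one_iff_mul_comm.1 (hinj ?_)
  rw [map_one]
  refine eq_one_of_irreducible hV h (m := Nat.card G)
    ((Fact.out : p.Prime).coprime_iff_not_dvd.2 hG).symm
    (by rw [← map_pow, pow_card_eq_one', map_one]) ?_
  intro W _ _ _ b' ρ' hexp h' hirr _
  obtain ⟨-, h4⟩ := irreducible_image hShult hr hcop hexp h' hirr
  rw [map_commutatorElement, commutatorElement_eq_one_iff_mul_comm, map_pow]
  exact h4 x hx y hy

end

end Cfsg.Agent.Spor.FpfMod
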