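import Cfsg.Agent.Lib.Spor.FpfMod.Moved

/-!
A fixed point free automorphism of prime order excludes transitive cyclic automorphism groups in
the coprime groups it normalises.
-/

set_option autoImplicit false
set_option linter.style.haveILetI false
set_option linter.unusedSectionVars false

universe u v

namespace Cfsg.Agent.Spor.FpfMod

open scoped Pointwise

/-- A prime order automorphism with no fixed point on a non-trivial `p`-group has order
different from `p`; more precisely its order divides the number of non-identity elements. -/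
theorem modEq_one_of_fpf {V : Type u} [Group V] [Finite V] {b : MulAut V} {r : ℕ} [Fact r.Prime]
    (hb : b ^ r = 1) (hfpf : ∀ v, b v = v → v = 1) : Nat.card V ≡ 1 [MOD r] := by
  have hK : IsPGroup r (Subgroup.zpowers b) := by
    rintro ⟨x, hx⟩
    obtain ⟨k, rfl⟩ := Subgroup.mem_zpowers_iff.1 hx
    refine ⟨1, Subtype.ext ?_⟩
    show (b ^ k) ^ r ^ 1 = 1
    rw [pow_one, ← zpow_natCast, ← zpow_mul, mul_comm, zpow_mul, zpow_natCast, hb, one_zpow]
  haveI : Finite (MulAction.fixedPoints (Subgroup.zpowers b) V) := inferInstance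
  have h1 : Nat.card (MulAction.fixedPoints (Subgroup.zpowers b) V) = 1 := by
    refine Nat.card_eq_one_iff_exists.2 ⟨⟨1, fun g => map_one (g : MulAut V)⟩, fun ⟨v, hv⟩ => ?_⟩
    exact Subtype.ext (hfpf v (hv ⟨b, Subgroup.mem_zpowers b⟩))
  rw [← h1]
  exact hK.card_modEq_card_fixedPoints V

/-- The same for an invariant subgroup. -/
theorem modEq_one_of_invariant {V : Type u} [Group V] [Finite V] {b : MulAut V} {r : ℕ}
    [Fact r.Prime] (hb : b ^ r = 1) (hfpf : ∀ v, b v = v → v = 1) {W : Subgroup V}
    (hW : ∀ w ∈ W, b w ∈ W) : Nat.card W ≡ 1 [MOD r] := by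
  refine modEq_one_of_fpf (b := resHom W ⟨b, mem_stabAut hW⟩) ?_ fun w hw =>
    Subtype.ext (hfpf _ (congrArg Subtype.val hw))
  rw [← map_pow, show (⟨b, mem_stabAut hW⟩ : stabAut W) ^ r = 1 from Subtype.ext hb, map_one]

/-- An automorphism of prime order not dividing the group order leaves a Sylow subgroup
invariant. -/
theorem exists_invariant_sylow' {G : Type v} [Group G] [Finite G] (q : ℕ) [Fact q.Prime]
    {a : MulAut G} {r : ℕ} [Fact r.Prime] (ha : a ^ r = 1) (hcop : ¬ r ∣ Nat.card G) :
    ∃ P : Sylow q G, ∀ g ∈ (P : Subgroup G), a g ∈ (P : Subgroup G) := by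
  have hK : IsPGroup r (Subgroup.zpowers a) := by
    rintro ⟨x, hx⟩
    obtain ⟨k, rfl⟩ := Subgroup.mem_zpowers_iff.1 hx
    refine ⟨1, Subtype.ext ?_⟩
    show (a ^ k) ^ r ^ 1 = 1
    rw [pow_one, ← zpow_natCast, ← zpow_mul, mul_comm, zpow_mul, zpow_natCast, ha, one_zpow]
  have hn : ¬ r ∣ Nat.card (Sylow q G) := fun h => by
    obtain ⟨P₀⟩ := (inferInstance : Nonempty (Sylow q G))
    exact hcop (h.trans ((P₀.card_dvd_index).trans (Subgroup.index_dvd_card _)))
  obtain ⟨P, hP⟩ := hK.nonempty_fixed_point_of_prime_not_dvd_card (Sylow q G) hn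
  refine ⟨P, fun g hg => ?_⟩
  have h := hP ⟨a, Subgroup.mem_zpowers a⟩
  rw [← h]
  exact Subgroup.smul_mem_pointwise_smul g (⟨a, Subgroup.mem_zpowers a⟩ : Subgroup.zpowers a) _ hg

variable {T : Type u} [CommGroup T] [Finite T] {p : ℕ} [Fact p.Prime] {r : ℕ}

/-- An automorphism moving a subgroup cannot fix pointwise all its other conjugates under a fixed
point free automorphism of order `r`. -/
theorem no_orbit {b : MulAut T} (hr : r.Prime) (hb : b ^ r = 1) (hfpf : ∀ t, b t = t → t = 1)
    {y : MulAut T} {v : T} (hne : y v ≠ v)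
    (hfix : ∀ i, 0 < i → i < r → y ((b ^ i) v) = (b ^ i) v) : False := by
  obtain ⟨x, hx⟩ : ∃ x, x = ∏ i ∈ Finset.range r, (b ^ i) v := ⟨_, rfl⟩
  have hbx : b x = x := by
    have h1 : b x = ∏ i ∈ Finset.range r, (b ^ (i + 1)) v := by
      rw [hx, map_prod]
      exact Finset.prod_congr rfl fun i _ => by rw [pow_succ', MulAut.mul_apply]
    have h2 := Finset.prod_range_succ' (fun i => (b ^ i) v) r
    rw [Finset.prod_range_succ, hb, pow_zero] at h2
    rw [h1]
    exact (mul_right_cancel h2.symm).trans hx.symm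
  have h1 := hfpf x hbx
  rw [hx] at h1
  have h0 : 0 ∈ Finset.range r := Finset.mem_range.2 hr.pos
  rw [← Finset.mul_prod_erase _ _ h0, pow_zero, MulAut.one_apply] at h1
  have h2 := congrArg y h1
  rw [map_mul, map_one, map_prod, Finset.prod_congr rfl fun i hi => hfix i
    (Nat.pos_of_ne_zero (Finset.mem_erase.1 hi).1) (Finset.mem_range.1 (Finset.mem_erase.1 hi).2),
    ← h1] at h2
  exact hne (mul_right_cancel h2)

/-- The exponent that a `2`-power order and a prime power size of `mv y` leave. -/
theorem card_cases {p k j : ℕ} (hp : p.Prime) (hp2 : p ≠ 2) (h : p ^ k = 2 ^ j + 1) :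
    k = 1 ∨ p ^ k = 9 := by
  rcases Nat.even_or_odd k with ⟨l, rfl⟩ | hk
  · right
    have hl : l ≠ 0 := by
      rintro rfl
      simp at h
    have h3 : 3 ≤ p ^ l := le_trans
      (by have := hp.two_le; omega) (Nat.le_self_pow hl p)
    have hf : (p ^ l - 1) * (p ^ l + 1) = 2 ^ j := by
      rw [pow_add] at h
      obtain ⟨x, hx⟩ : ∃ x, p ^ l = x + 1 := ⟨p ^ l - 1, by omega⟩
      rw [hx] at h ⊢
      simp only [Nat.add_sub_cancel]
      nlinarith
    obtain ⟨i, -, hi⟩ := (Nat.dvd_prime_pow Nat.prime_two).1 ⟨_, hf.symm⟩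
    obtain ⟨i', -, hi'⟩ := (Nat.dvd_prime_pow Nat.prime_two).1
      ⟨_, (mul_comm (p ^ l + 1) _ ▸ hf : (p ^ l + 1) * (p ^ l - 1) = 2 ^ j).symm⟩
    rcases Nat.lt_or_ge i 2 with hi2 | hi2
    · have : p ^ l = 3 := by
        interval_cases i <;> simp at hi <;> omega
      rw [pow_add, this]
      norm_num
    · exfalso
      have h4 : 4 ∣ 2 ^ i := dvd_trans (by norm_num) (pow_dvd_pow 2 hi2)
      have hle : 2 ≤ i' := by
        by_contra hlt
        interval_cases i' <;> simp only [pow_zero, pow_one] at hi' <;> omega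
      have h4' : 4 ∣ 2 ^ i' := dvd_trans (by norm_num) (pow_dvd_pow 2 hle)
      omega
  · left
    rcases Nat.eq_zero_or_pos j with rfl | hj
    · exfalso
      have hodd : Odd (p ^ k) := (hp.odd_of_ne_two hp2).pow
      rw [h] at hodd
      exact absurd hodd (by decide)
    have h1 : (p ^ k - 1) = (p - 1) * ∑ i ∈ Finset.range k, p ^ i := by
      rw [mul_comm, geom_sum_mul_of_one_le]
      exact hp.one_lt.le
    have hs : Odd (∑ i ∈ Finset.range k, p ^ i) := by
      rw [Nat.odd_iff, Finset.sum_nat_mod]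
      have : ∀ i ∈ Finset.range k, p ^ i % 2 = 1 := fun i _ =>
        Nat.odd_iff.1 (hp.odd_of_ne_two hp2).pow
      rw [Finset.sum_congr rfl this]
      simpa using Nat.odd_iff.1 hk
    have hd : (∑ i ∈ Finset.range k, p ^ i) ∣ 2 ^ j := by
      refine ⟨p - 1, ?_⟩
      rw [mul_comm, ← h1, h, Nat.add_sub_cancel]
    obtain ⟨i, -, hi⟩ := (Nat.dvd_prime_pow Nat.prime_two).1 hd
    rcases Nat.eq_zero_or_pos i with rfl | hi0
    · by_contra hne
      have h2 : 2 ≤ k := by obtain ⟨l, rfl⟩ := hk; omega
      have h3 : ∑ i ∈ Finset.range 2, p ^ i ≤ ∑ i ∈ Finset.range k, p ^ i :=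
        Finset.sum_le_sum_of_subset (Finset.range_mono h2)
      rw [hi] at h3
      simp [Finset.sum_range_succ] at h3
      have := hp.two_le
      omega
    · exfalso
      rw [hi, Nat.odd_iff, Nat.two_pow_mod_two_eq_zero.2 hi0] at hs
      exact absurd hs (by decide)

/-- In a group of order a power of two, automorphisms of this kind of the same order at least
three commute. -/
theorem singer_commute (hp2 : p ≠ 2) (hT : IsPGroup p T) {n : ℕ} (hn : 3 ≤ n)
    {M : Subgroup (MulAut T)} (hM : IsPGroup 2 M) {y y' : MulAut T} (hy : y ∈ M) (hy' : y' ∈ M)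
    (hs : Sing p y) (hs' : Sing p y') (ho : orderOf y = n) (ho' : orderOf y' = n) :
    Commute y y' := by
  induction hN : Nat.card M using Nat.strong_induction_on generalizing M y y' with
  | _ N ih =>
    by_contra hnc
    haveI : Fact (2 : ℕ).Prime := ⟨Nat.prime_two⟩
    haveI : Group.IsNilpotent M := hM.isNilpotent
    have hzne : Subgroup.zpowers (⟨y, hy⟩ : M) ≠ ⊤ := by
      intro e
      refine hnc ?_
      have hmem : (⟨y', hy'⟩ : M) ∈ Subgroup.zpowers (⟨y, hy⟩ : M) := e ▸ trivial
      obtain ⟨k, hk⟩ := Subgroup.mem_zpowers_iff.1 hmem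
      have : y ^ k = y' := by simpa using congrArg Subtype.val hk
      exact this ▸ (Commute.refl y).zpow_right k
    obtain ⟨N₀, hN₀, hle⟩ := (eq_top_or_exists_le_coatom (Subgroup.zpowers (⟨y, hy⟩ : M))).resolve_left hzne
    haveI hN₀n : N₀.Normal :=
      Subgroup.NormalizerCondition.normal_of_coatom N₀ Group.normalizerCondition_of_isNilpotent hN₀
    have hyN : (⟨y, hy⟩ : M) ∈ N₀ := hle (Subgroup.mem_zpowers _)
    have hlt : Nat.card (N₀.map M.subtype) < N := by
      rw [← hN, Subgroup.card_map_of_injective M.subtype_injective]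
      refine lt_of_le_of_ne (Subgroup.card_le_card_group N₀) fun e => hN₀.1 ?_
      exact Subgroup.eq_top_of_card_eq N₀ e
    have hN₀p : IsPGroup 2 (N₀.map M.subtype) := (hM.to_subgroup N₀).map M.subtype
    have hconj : ∀ i : ℕ, y' ^ i * y * (y' ^ i)⁻¹ ∈ N₀.map M.subtype := fun i =>
      ⟨_, hN₀n.conj_mem _ hyN ((⟨y', hy'⟩ : M) ^ i), by simp⟩
    have hcomm : ∀ i, Commute y (y' ^ i * y * (y' ^ i)⁻¹) := fun i =>
      ih _ hlt hN₀p ⟨_, hyN, rfl⟩ (hconj i) hs (hs.conj _) ho
        ((hs.orderOf_conj _).trans ho) rfl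
    obtain ⟨y1, hy1d⟩ : ∃ y1, y1 = y' * y * y'⁻¹ := ⟨_, rfl⟩
    have hc1 : Commute y y1 := by simpa [hy1d] using hcomm 1
    have hs1 : Sing p y1 := hy1d ▸ hs.conj y'
    have ho1 : orderOf y1 = n := hy1d ▸ (hs.orderOf_conj y').trans ho
    have hV1 : mv y1 = (mv y).map y'.toMonoidHom := hy1d ▸ mv_conj y' y
    have hcardV : Nat.card (mv y) = n + 1 := ho ▸ hs.card_mv hT
    have hcardV' : Nat.card (mv y') = n + 1 := ho' ▸ hs'.card_mv hT
    by_cases hV : mv y1 = mv y
    swap
    · -- the commutator subgroup is moved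
      have hinter : ∀ z, z ∈ mv y → z ∈ mv y1 → z = 1 := by
        intro z hz hz1
        by_contra hne
        have hle := hs.le_of_invariant (W := mv y1)
          (fun w hw => apply_mem_mv_of_commute hc1 hw) hz hz1 hne
        refine hV (Subgroup.eq_of_le_of_card_ge hle ?_).symm
        rw [hV1, Subgroup.card_map_of_injective y'.injective]
      have hfix1 : ∀ w ∈ mv y1, y w = w := fun w hw =>
        div_eq_one.1 (hinter _ (apply_div_mem_mv y w)
          ((mv y1).div_mem (apply_mem_mv_of_commute hc1 hw) hw))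
      let d : mv y → mv y' := fun v => ⟨y' v / v, apply_div_mem_mv y' v⟩
      have hd : Function.Injective d := by
        intro v w hvw
        have e : y' v / v = y' w / w := congrArg Subtype.val hvw
        have hz : y' ((v : T) / w) = (v : T) / w := by
          rw [map_div, div_eq_div_iff_div_eq_div]
          exact e
        refine Subtype.ext (div_eq_one.1 (hinter _ ((mv y).div_mem v.2 w.2) ?_))
        rw [hV1, ← hz]
        exact ⟨_, (mv y).div_mem v.2 w.2, rfl⟩
      have hdb : Function.Bijective d :=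
        (Nat.bijective_iff_injective_and_card d).2 ⟨hd, hcardV.trans hcardV'.symm⟩
      -- the square of `y'` leaves `mv y` invariant
      obtain ⟨y2, hy2d⟩ : ∃ y2, y2 = y' ^ 2 * y * (y' ^ 2)⁻¹ := ⟨_, rfl⟩
      have hc2 : Commute y y2 := hy2d ▸ hcomm 2
      have hs2 : Sing p y2 := hy2d ▸ hs.conj _
      have hV2 : mv y2 = (mv y).map (y' ^ 2).toMonoidHom := hy2d ▸ mv_conj _ y
      have hc12 : Commute y1 y2 := by
        have e : ∀ z, y' * z * y'⁻¹ = MulAut.conj y' z := fun z => rfl
        have h2 : y2 = y' * y1 * y'⁻¹ := by rw [hy2d, hy1d, pow_two]; group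
        rw [h2, hy1d, e, e]
        exact (hy1d ▸ hc1 : Commute y (y' * y * y'⁻¹)).map (MulAut.conj y').toMonoidHom
      have key : ∀ v ∈ mv y, (y' ^ 2) v = v := by
        intro v hv
        obtain ⟨u, hu⟩ := hdb.2 ⟨y' (y' v / v), by
          exact apply_mem_mv_of_commute (Commute.refl y') (apply_div_mem_mv y' v)⟩
        have hu' : y' u / u = y' (y' v) / y' v := by
          rw [← map_div]; exact congrArg Subtype.val hu
        have hprod : (y' ^ 2) v = y' ((u : T) * v) / u := by
          rw [pow_two, MulAut.mul_apply, map_mul, mul_div_right_comm, hu', div_mul_cancel]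
        have hV2v : (y' ^ 2) v ∈ mv y2 := hV2 ▸ ⟨v, hv, rfl⟩
        have hmem1 : y' ((u : T) * v) ∈ mv y1 := hV1 ▸ ⟨_, (mv y).mul_mem u.2 hv, rfl⟩
        by_cases hsame : ∀ z ∈ mv y, y2 z = z
        · -- then `y2` fixes `(y' ^ 2) v`
          have hfix2 : ∀ z ∈ mv y1, y2 z = z := by
            rcases hs2.le_or_fixed (W := mv y1)
              (fun w hw => apply_mem_mv_of_commute hc12.symm hw) with h | h
            · exfalso
              -- then `mv y2 = mv y1`, which pulls back to `mv y1 = mv y`
              have he : mv y2 = mv y1 := Subgroup.eq_of_le_of_card_ge h (by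
                rw [hV1, hV2, Subgroup.card_map_of_injective (f := (y' ^ 2).toMonoidHom) (y' ^ 2).injective,
                  Subgroup.card_map_of_injective (f := y'.toMonoidHom) y'.injective])
              refine hV (Subgroup.map_injective (f := y'.toMonoidHom) y'.injective ?_)
              calc (mv y1).map y'.toMonoidHom = (mv y).map (y' ^ 2).toMonoidHom := by
                    rw [hV1, Subgroup.map_map, pow_two]; rfl
                _ = mv y2 := hV2.symm
                _ = mv y1 := he
                _ = (mv y).map y'.toMonoidHom := hV1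
            · exact h
          have h1 : (y' ^ 2) v = 1 := hs2.eq_one_of_fixed hT hV2v (by
            rw [hprod, map_div, hfix2 _ hmem1, hsame _ u.2])
          have h3 : v = 1 := (y' ^ 2).injective (h1.trans (map_one _).symm)
          rw [h1, h3]
        · push Not at hsame
          obtain ⟨z, hz, hzne⟩ := hsame
          have hle : mv y2 ≤ mv y :=
            (hs2.le_or_fixed (W := mv y) fun w hw => apply_mem_mv_of_commute hc2.symm hw).resolve_right
              fun h => hzne (h z hz)
          have h2v : (y' ^ 2) v ∈ mv y := hle hV2v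
          have h1 : y' ((u : T) * v) = 1 := hinter _ (by
            rw [show y' ((u : T) * v) = (y' ^ 2) v * u by rw [hprod, div_mul_cancel]]
            exact (mv y).mul_mem h2v u.2) hmem1
          rw [hprod, h1, one_div]
          have h3 : (u : T) * v = 1 := y'.injective (h1.trans (map_one y').symm)
          exact (eq_inv_of_mul_eq_one_right h3).symm
      have hsq : y' ^ 2 = 1 := by
        refine hs'.ext hT (fun w hw => ?_) fun w hw => ?_
        · obtain ⟨v, hv⟩ := hdb.2 ⟨w, hw⟩
          have e : y' v / v = w := congrArg Subtype.val hv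
          rw [← e, MulAut.one_apply, map_div, key _ v.2, ← MulAut.mul_apply, ← pow_succ, pow_succ',
            MulAut.mul_apply, key _ v.2]
        · rw [pow_two, MulAut.mul_apply, mem_fx.1 hw, mem_fx.1 hw, MulAut.one_apply]
      have := orderOf_le_of_pow_eq_one (by norm_num) hsq
      omega
    -- the commutator subgroup is fixed
    have hfxeq : fx y1 = fx y := by
      have h : ∀ w ∈ fx y, y1 w = w := fun w hw => by
        refine div_eq_one.1 (hs.eq_one_of_fixed hT ?_ (mem_fx.1 ((fx y).div_mem
          (apply_mem_fx_of_commute hc1.symm hw) hw)))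
        rw [← hV]
        exact apply_div_mem_mv y1 w
      have h' : ∀ w ∈ fx y1, y w = w := fun w hw => by
        refine div_eq_one.1 (hs1.eq_one_of_fixed hT ?_ (mem_fx.1 ((fx y1).div_mem
          (apply_mem_fx_of_commute hc1 hw) hw)))
        rw [hV]
        exact apply_div_mem_mv y w
      exact le_antisymm (fun w hw => mem_fx.2 (h' w hw)) fun w hw => mem_fx.2 (h w hw)
    have hVinv : ∀ v ∈ mv y, y' v ∈ mv y := fun v hv => hV ▸ hV1 ▸ ⟨v, hv, rfl⟩
    have hCinv : ∀ w ∈ fx y, y' w ∈ fx y := fun w hw => by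
      rw [← hfxeq, mem_fx, hy1d]
      show y' (y (y'⁻¹ (y' w))) = y' w
      rw [MulAut.inv_apply_self, mem_fx.1 hw]
    rcases hs'.le_or_fixed (W := mv y) hVinv with hle' | hfixV
    swap
    · -- `y'` fixes `mv y` pointwise
      refine hnc ?_
      have he : y1 = y := by
        refine hs.ext hT (fun v hv => ?_) fun w hw => ?_
        · have h1 : y'⁻¹ v = v := by
            conv_lhs => rw [← hfixV v hv, MulAut.inv_apply_self]
          rw [hy1d]
          show y' (y (y'⁻¹ v)) = y v
          rw [h1, hfixV _ (apply_mem_mv_of_commute (Commute.refl y) hv)]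
        · rw [mem_fx.1 (hfxeq ▸ hw : w ∈ fx y1), mem_fx.1 hw]
      rw [hy1d, mul_inv_eq_iff_eq_mul] at he
      exact he.symm
    have hVV : mv y' = mv y := Subgroup.eq_of_le_of_card_ge hle' (hcardV.trans hcardV'.symm).le
    have hC' : ∀ w ∈ fx y, y' w = w := fun w hw => by
      refine div_eq_one.1 (hs.eq_one_of_fixed hT ?_ (mem_fx.1 ((fx y).div_mem (hCinv w hw) hw)))
      rw [← hVV]
      exact apply_div_mem_mv y' w
    have hCy : ∀ w ∈ fx y, y w = w := fun w hw => mem_fx.1 hw
    obtain ⟨k, hk⟩ := (IsPGroup.iff_card.1 (hT.to_subgroup (mv y)))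
    obtain ⟨j, hj⟩ : ∃ j, n = 2 ^ j := by
      obtain ⟨i, hi⟩ := hM ⟨y, hy⟩
      obtain ⟨j, -, hj⟩ := (Nat.dvd_prime_pow Nat.prime_two).1
        (orderOf_dvd_of_pow_eq_one (x := y) (n := 2 ^ i) (by simpa using congrArg Subtype.val hi))
      exact ⟨j, ho ▸ hj⟩
    rcases card_cases (Fact.out : p.Prime) hp2 (hk.symm.trans (hj ▸ hcardV)) with hk1 | hk9
    · -- a group of prime order has commutative automorphism group
      refine hnc (hs.ext hT (fun v hv => ?_) fun w hw => ?_)
      · subst hk1
        rw [pow_one] at hk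
        haveI : IsCyclic (mv y) := isCyclic_of_prime_card hk
        obtain ⟨⟨g, hg⟩, hgen⟩ := IsCyclic.exists_generator (α := mv y)
        have hpow : ∀ z ∈ mv y, ∃ i : ℤ, g ^ i = z := fun z hz => by
          obtain ⟨i, hi⟩ := Subgroup.mem_zpowers_iff.1 (hgen ⟨z, hz⟩)
          exact ⟨i, by simpa using congrArg Subtype.val hi⟩
        obtain ⟨i, rfl⟩ := hpow v hv
        obtain ⟨i1, h1⟩ := hpow _ (apply_mem_mv_of_commute (Commute.refl y) hg : y g ∈ mv y)
        obtain ⟨i2, h2⟩ := hpow _ (hVinv g hg)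
        show y (y' (g ^ i)) = y' (y (g ^ i))
        rw [map_zpow, map_zpow, map_zpow, map_zpow, ← h1, ← h2, map_zpow, map_zpow, ← h1, ← h2,
          ← zpow_mul, ← zpow_mul, ← zpow_mul, ← zpow_mul, mul_left_comm]
      · show y (y' w) = y' (y w)
        rw [hC' w hw, hCy w hw, hC' w hw]
    -- the case of nine elements
    have hn8 : n = 8 := by rw [hcardV, hk9] at hk; omega
    obtain ⟨u, hu, hu1⟩ := (mv y).bot_or_exists_ne_one.resolve_left hs.mv_ne_bot
    have hyu1 : y u ≠ 1 := fun e => hu1 (y.injective (e.trans (map_one y).symm))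
    have hy1u : y1 u ∈ mv y := hV ▸ apply_mem_mv_of_commute (Commute.refl y1) (hV ▸ hu)
    obtain ⟨i, hi⟩ := hs.trans u hu (y1 u) hy1u hu1
      fun e => hu1 (y1.injective (e.trans (map_one y1).symm))
    have hy1 : y1 = y ^ i := by
      refine hs.ext hT (fun v hv => ?_) fun w hw => ?_
      · have hc : Commute ((y ^ i)⁻¹ * y1) y :=
          ((Commute.refl y).pow_left i).inv_left.mul_left hc1.symm
        have := hs.fixed_all hc hu hu1 (by
          show (y ^ i)⁻¹ (y1 u) = u
          rw [← hi, MulAut.inv_apply_self]) hv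
        have h2 := congrArg (y ^ i) (this : (y ^ i)⁻¹ (y1 v) = v)
        simpa only [MulAut.mul_apply, MulAut.apply_inv_self] using h2
      · rw [mem_fx.1 (hfxeq ▸ hw : w ∈ fx y1)]
        clear hi
        induction i with
        | zero => rfl
        | succ i ihi => rw [pow_succ', MulAut.mul_apply, ← ihi, hCy w hw]
    have hiodd : Nat.Coprime 8 i := by
      have h := ho1
      rw [hy1, orderOf_pow, ho, hn8] at h
      show Nat.gcd 8 i = 1
      have h2 : Nat.gcd 8 i ∣ 8 := Nat.gcd_dvd_left 8 i
      have h3 := Nat.div_mul_cancel h2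
      rw [h] at h3
      omega
    have hsqc : Commute (y' ^ 2) y := by
      have e1 : y' ^ 2 * y * (y' ^ 2)⁻¹ = y ^ (i * i) := by
        calc y' ^ 2 * y * (y' ^ 2)⁻¹ = y' * (y' * y * y'⁻¹) * y'⁻¹ := by rw [pow_two]; group
          _ = MulAut.conj y' (y ^ i) := by rw [← hy1d, hy1]; rfl
          _ = y ^ (i * i) := by
            rw [map_pow, show MulAut.conj y' y = y ^ i by rw [← hy1, hy1d]; rfl, ← pow_mul]
      have hii : i * i % 8 = 1 := by
        have hodd : i % 2 = 1 := by
          by_contra h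
          have : 2 ∣ Nat.gcd 8 i := Nat.dvd_gcd (by norm_num) (by omega)
          rw [hiodd] at this
          omega
        have h8 : i % 8 = 1 ∨ i % 8 = 3 ∨ i % 8 = 5 ∨ i % 8 = 7 := by omega
        rw [Nat.mul_mod]
        rcases h8 with h | h | h | h <;> rw [h]
      rw [← pow_mod_orderOf y (i * i), ho, hn8, hii, pow_one, mul_inv_eq_iff_eq_mul] at e1
      exact e1
    have hsu : (y' ^ 2) u ∈ mv y := by rw [pow_two, MulAut.mul_apply]; exact hVinv _ (hVinv u hu)
    obtain ⟨l, hl⟩ := hs.trans u hu _ hsu hu1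
      fun e => hu1 ((y' ^ 2).injective (e.trans (map_one _).symm))
    have hy'2 : y' ^ 2 = y ^ l := by
      refine hs.ext hT (fun v hv => ?_) fun w hw => ?_
      · have hc : Commute ((y ^ l)⁻¹ * y' ^ 2) y :=
          ((Commute.refl y).pow_left l).inv_left.mul_left hsqc
        have := hs.fixed_all hc hu hu1 (by
          show (y ^ l)⁻¹ ((y' ^ 2) u) = u
          rw [← hl, MulAut.inv_apply_self]) hv
        have h2 := congrArg (y ^ l) (this : (y ^ l)⁻¹ ((y' ^ 2) v) = v)
        simpa only [MulAut.mul_apply, MulAut.apply_inv_self] using h2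
      · rw [pow_two, MulAut.mul_apply, hC' w hw, hC' w hw]
        clear hl
        induction l with
        | zero => rfl
        | succ l ihl => rw [pow_succ', MulAut.mul_apply, ← ihl, hCy w hw]
    have hl8 : l % 8 = 2 ∨ l % 8 = 6 := by
      have h1 : orderOf (y' ^ 2) = 4 := by
        rw [orderOf_pow, ho', hn8]; rfl
      rw [hy'2, ← pow_mod_orderOf, ho, hn8, orderOf_pow, ho, hn8] at h1
      have : l % 8 < 8 := Nat.mod_lt _ (by norm_num)
      obtain ⟨m, hm⟩ : ∃ m, l % 8 = m := ⟨_, rfl⟩
      rw [hm] at h1 this ⊢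
      interval_cases m <;> first | omega | norm_num at h1
    have hcy2 : Commute y' (y ^ 2) := by
      have hc : Commute y' (y ^ (l % 8)) := by
        rw [← hn8, ← ho, pow_mod_orderOf, ← hy'2]
        exact (Commute.refl y').pow_right 2
      rcases hl8 with h | h
      · rwa [h] at hc
      · rw [h] at hc
        have e : y ^ 2 = (y ^ 6)⁻¹ := by
          refine eq_inv_of_mul_eq_one_left ?_
          rw [← pow_add, show 2 + 6 = orderOf y by omega, pow_orderOf_eq_one]
        rw [e]
        exact hc.inv_right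
    obtain ⟨m, hm⟩ := hs.trans u hu _ (hVinv u hu) hu1
      fun e => hu1 (y'.injective (e.trans (map_one y').symm))
    refine hnc ?_
    suffices y' = y ^ m by rw [this]; exact (Commute.refl y).pow_right m
    obtain ⟨g, hgd⟩ : ∃ g, g = (y ^ m)⁻¹ * y' := ⟨_, rfl⟩
    have hgu : g u = u := by
      rw [hgd]
      show (y ^ m)⁻¹ (y' u) = u
      rw [← hm, MulAut.inv_apply_self]
    have hgc : Commute g (y ^ 2) := hgd ▸ ((Commute.pow_pow_self y m 2).inv_left.mul_left hcy2)
    let K : Subgroup T := mv y ⊓ fx g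
    have hKu : u ∈ K := ⟨hu, mem_fx.2 hgu⟩
    have hKy : ∀ z ∈ K, (y ^ 2) z ∈ K := fun z hz =>
      ⟨hs.pow_apply_mem 2 hz.1, apply_mem_fx_of_commute hgc.symm hz.2⟩
    have hne24 : ∀ i, 0 < i → i < 8 → (y ^ i) u ≠ u := fun i h0 h8 e => by
      have h1 := orderOf_dvd_of_pow_eq_one (hs.pow_eq_one hT hu hu1 e)
      rw [ho, hn8] at h1
      have := Nat.le_of_dvd h0 h1
      omega
    have h4 : 3 < Nat.card K := by
      haveI := Fintype.ofFinite T
      classical
      have hsub : ({1, u, (y ^ 2) u, (y ^ 4) u} : Finset T) ⊆ (K : Set T).toFinset := by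
        intro z hz
        simp only [Finset.mem_insert, Finset.mem_singleton] at hz
        rw [Set.mem_toFinset]
        rcases hz with rfl | rfl | rfl | rfl
        · exact K.one_mem
        · exact hKu
        · exact hKy u hKu
        · rw [show y ^ 4 = y ^ 2 * y ^ 2 by rw [← pow_add]]
          exact hKy _ (hKy u hKu)
      have hne1 : ∀ i, (y ^ i) u ≠ 1 := fun i e => hu1 ((y ^ i).injective (e.trans (map_one _).symm))
      have h24 : (y ^ 2) u ≠ (y ^ 4) u := fun e => hne24 2 (by norm_num) (by norm_num) (by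
        refine (y ^ 2).injective ?_
        rw [← MulAut.mul_apply, ← pow_add, ← e])
      have hcard : ({1, u, (y ^ 2) u, (y ^ 4) u} : Finset T).card = 4 := by
        rw [Finset.card_insert_of_notMem, Finset.card_insert_of_notMem,
          Finset.card_insert_of_notMem, Finset.card_singleton] <;>
          simp only [Finset.mem_insert, Finset.mem_singleton, not_or]
        · exact h24
        · exact ⟨(hne24 2 (by norm_num) (by norm_num)).symm, (hne24 4 (by norm_num) (by norm_num)).symm⟩
        · exact ⟨hu1.symm, (hne1 2).symm, (hne1 4).symm⟩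
      have := Finset.card_le_card hsub
      rw [hcard, Set.toFinset_card, ← Nat.card_eq_fintype_card] at this
      exact this
    have hKtop : K = mv y := by
      refine Subgroup.eq_of_le_of_card_ge inf_le_left ?_
      have hd : Nat.card K ∣ 9 := hk9 ▸ hk ▸ Subgroup.card_dvd_of_le inf_le_left
      have h9 : Nat.card K ≤ 9 := Nat.le_of_dvd (by norm_num) hd
      rw [hk, hk9]
      interval_cases h : Nat.card K <;> omega
    refine hs.ext hT (fun v hv => ?_) fun w hw => ?_
    · have h1 : g v = v := mem_fx.1 (hKtop.ge hv).2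
      rw [hgd] at h1
      have h2 := congrArg (y ^ m) (h1 : (y ^ m)⁻¹ (y' v) = v)
      simpa only [MulAut.mul_apply, MulAut.apply_inv_self] using h2
    · rw [hC' w hw]
      clear hm hgd
      induction m with
      | zero => rfl
      | succ m ihm => rw [pow_succ', MulAut.mul_apply, ← ihm, hCy w hw]

end Cfsg.Agent.Spor.FpfMod
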