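import Mathlib
import Cfsg.Prelude.Def_Transfer
import Cfsg.Agent.Lib.Grp.Frattini

/-!
Consequences of the fixed point theorem of Shult type for coprime actions on finite `p`-groups:
the irreducible elementary abelian case.
-/

set_option autoImplicit false
set_option linter.style.haveILetI false
set_option linter.unusedSectionVars false

universe u v

namespace Cfsg.Agent.Spor.FpfMod

open scoped commutatorElement

/-- The fixed point theorem of Shult type, over prime fields (a hypothesis of this library). -/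
def ShultStatement : Prop :=
  ∀ {X : Type u} [Group X] [Finite X] (G R : Subgroup X) [G.Normal], G ⊔ R = ⊤ →
    ∀ (r : ℕ), r.Prime → Nat.card R = r → ¬ r ∣ Nat.card G →
    ∀ {p : ℕ} [Fact p.Prime] {V : Type u} [AddCommGroup V] [Module (ZMod p) V]
      [FiniteDimensional (ZMod p) V] [Nontrivial V] (ρ : Representation (ZMod p) X V),
      Function.Injective ρ →
      (∀ W : Submodule (ZMod p) V, (∀ x : X, W.map (ρ x) ≤ W) → W = ⊥ ∨ W = ⊤) →
      (∀ v : V, (∀ x ∈ R, ρ x v = v) → v = 0) →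
      ⁅G, R⁆ = ⊥ ∨ ((∃ m : ℕ, r = 2 ^ m + 1) ∧ ¬ IsMulCommutative ↥⁅G, R⁆ ∧
        Cfsg.IsSpecial 2 ↥⁅G, R⁆)

variable {G : Type v} [Group G]

/-- Compatible actions of a group and of an automorphism of it of order dividing `r`, the
automorphism fixing only the identity. -/
structure Act (a : MulAut G) {V : Type u} [Group V] (b : MulAut V) (ρ : G →* MulAut V) (r : ℕ) :
    Prop where
  compat : ∀ g, ρ (a g) = b * ρ g * b⁻¹
  bpow : b ^ r = 1
  fpf : ∀ v, b v = v → v = 1

/-- Irreducibility of the joint action. -/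
def Irr {V : Type u} [Group V] (b : MulAut V) (ρ : G →* MulAut V) : Prop :=
  ∀ W : Subgroup V, (∀ g, ∀ w ∈ W, ρ g w ∈ W) → (∀ w ∈ W, b w ∈ W) → W = ⊥ ∨ W = ⊤

/-- The subgroup generated by the elements `g⁻¹ a(g)`. -/
def comClosure (a : MulAut G) : Subgroup G :=
  Subgroup.closure (Set.range fun g => g⁻¹ * a g)

instance finite_mulAut {V : Type u} [Group V] [Finite V] : Finite (MulAut V) :=
  Finite.of_injective (fun σ : MulAut V => ⇑σ) DFunLike.coe_injective

/-- In an irreducible fixed point free situation the image of the commutator with the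
automorphism is a `2`-group whose squares are central. -/
theorem irreducible_image (hShult : ShultStatement.{u}) {p : ℕ} [Fact p.Prime] [Finite G]
    {a : MulAut G} {r : ℕ} (hr : r.Prime) (hcop : ¬ r ∣ Nat.card G)
    {V : Type u} [CommGroup V] [Finite V] [Nontrivial V] {b : MulAut V} {ρ : G →* MulAut V}
    (hexp : ∀ v : V, v ^ p = 1) (h : Act a b ρ r) (hirr : Irr b ρ) :
    (∀ x ∈ comClosure a, ∃ k : ℕ, ρ x ^ 2 ^ k = 1) ∧
      ∀ x ∈ comClosure a, ∀ y ∈ comClosure a, ρ x ^ 2 * ρ y = ρ y * ρ x ^ 2 := by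
  classical
  haveI : Fact r.Prime := ⟨hr⟩
  have hb1 : b ≠ 1 := by
    intro hb
    obtain ⟨v, hv⟩ := exists_ne (1 : V)
    exact hv (h.fpf v (by rw [hb]; rfl))
  have hord : orderOf b = r := orderOf_eq_prime h.bpow hb1
  let Gb : Subgroup (MulAut V) := ρ.range
  let Rb : Subgroup (MulAut V) := Subgroup.zpowers b
  obtain ⟨X, hX⟩ : ∃ X : Subgroup (MulAut V), X = Gb ⊔ Rb := ⟨_, rfl⟩
  have hGX : Gb ≤ X := hX ▸ le_sup_left
  have hRX : Rb ≤ X := hX ▸ le_sup_right
  have hnorm : X ≤ Subgroup.normalizer (Gb : Set (MulAut V)) := by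
    rw [hX]
    refine sup_le Subgroup.le_normalizer (Subgroup.zpowers_le.2 ?_)
    refine Subgroup.mem_normalizer_iff.2 fun σ => ⟨?_, ?_⟩
    · rintro ⟨g, rfl⟩
      exact ⟨a g, h.compat g⟩
    · rintro ⟨g, hg⟩
      obtain ⟨g', rfl⟩ := a.surjective g
      refine ⟨g', ?_⟩
      rw [h.compat] at hg
      exact mul_left_cancel (mul_right_cancel hg)
  haveI hGn : (Gb.subgroupOf X).Normal := Subgroup.normal_subgroupOf_of_le_normalizer hnorm
  have htop : Gb.subgroupOf X ⊔ Rb.subgroupOf X = ⊤ := by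
    rw [← Subgroup.subgroupOf_sup hGX hRX, ← hX, Subgroup.subgroupOf_self]
  have hRcard : Nat.card (Rb.subgroupOf X) = r := by
    rw [Nat.card_congr (Subgroup.subgroupOfEquivOfLe hRX).toEquiv, Nat.card_zpowers, hord]
  have hGcard : ¬ r ∣ Nat.card (Gb.subgroupOf X) := by
    rw [Nat.card_congr (Subgroup.subgroupOfEquivOfLe hGX).toEquiv]
    exact fun hd => hcop (hd.trans (Subgroup.card_range_dvd ρ))
  have hz : ∀ x : Additive V, p • x = 0 := fun x => by
    show Additive.ofMul (Additive.toMul x ^ p) = 0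
    rw [hexp]; rfl
  obtain ⟨_⟩ : Nonempty (Module (ZMod p) (Additive V)) := ⟨AddCommGroup.zmodModule hz⟩
  haveI : Module.Finite (ZMod p) (Additive V) := Module.Finite.of_finite
  let f₀ : X → Module.End (ZMod p) (Additive V) := fun x =>
    AddMonoidHom.toZModLinearMap p (MonoidHom.toAdditive (x : MulAut V).toMonoidHom)
  have hf1 : ∀ v, f₀ 1 v = v := fun _ => rfl
  have hf2 : ∀ x y v, f₀ (x * y) v = f₀ x (f₀ y v) := fun _ _ _ => rfl
  let R₀ : X →* Module.End (ZMod p) (Additive V) :=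
    { toFun := f₀
      map_one' := LinearMap.ext fun v => by rw [Module.End.one_apply]; exact hf1 v
      map_mul' := fun x y => LinearMap.ext fun v => by rw [Module.End.mul_apply]; exact hf2 x y v }
  have hR₀ : ∀ (x : X) (v : V), R₀ x (Additive.ofMul v) = Additive.ofMul ((x : MulAut V) v) :=
    fun _ _ => rfl
  have hinj : Function.Injective R₀ := by
    intro x y hxy
    refine Subtype.ext (MulEquiv.ext fun v => Additive.ofMul.injective ?_)
    rw [← hR₀, ← hR₀, hxy]
  have hgX : ∀ g, ρ g ∈ X := fun g => hGX ⟨g, rfl⟩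
  have hbX : b ∈ X := hRX (Subgroup.mem_zpowers b)
  have hfix : ∀ v : Additive V, (∀ x ∈ Rb.subgroupOf X, R₀ x v = v) → v = 0 := fun v hv =>
    Additive.toMul.injective (h.fpf (Additive.toMul v) (Additive.ofMul.injective
      (hv ⟨b, hbX⟩ (Subgroup.mem_subgroupOf.2 (Subgroup.mem_zpowers b)))))
  have hirr' : ∀ W : Submodule (ZMod p) (Additive V),
      (∀ x : X, W.map (R₀ x) ≤ W) → W = ⊥ ∨ W = ⊤ := by
    intro W hW
    let U : Subgroup V := AddSubgroup.toSubgroup' W.toAddSubgroup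
    have hU : ∀ σ ∈ X, ∀ w ∈ U, σ w ∈ U := fun σ hσ w hw =>
      (hW ⟨σ, hσ⟩ ⟨Additive.ofMul w, hw, rfl⟩ : _)
    rcases hirr U (fun g => hU _ (hgX g)) (hU _ hbX) with e | e
    · refine Or.inl ((Submodule.eq_bot_iff W).2 fun x hx => ?_)
      have : Additive.toMul x ∈ U := hx
      rw [e, Subgroup.mem_bot] at this
      exact Additive.toMul.injective this
    · refine Or.inr (eq_top_iff.2 fun x _ => ?_)
      have : Additive.toMul x ∈ U := e ▸ trivial
      exact this
  have key := hShult (Gb.subgroupOf X) (Rb.subgroupOf X) htop r hr hRcard hGcard R₀ hinj hirr' hfix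
  let C : Subgroup X := ⁅Gb.subgroupOf X, Rb.subgroupOf X⁆
  have hmem : ∀ x ∈ comClosure a, (⟨ρ x, hgX x⟩ : X) ∈ C := by
    intro x hx
    induction hx using Subgroup.closure_induction with
    | mem x hx =>
      obtain ⟨g, rfl⟩ := hx
      have hm := Subgroup.commutator_mem_commutator
        (H₁ := Gb.subgroupOf X) (H₂ := Rb.subgroupOf X) (g₁ := ⟨ρ g⁻¹, hgX _⟩) (g₂ := ⟨b, hbX⟩)
        ⟨g⁻¹, rfl⟩ (Subgroup.mem_zpowers b)
      convert hm using 1
      refine Subtype.ext ?_
      show ρ (g⁻¹ * a g) = ρ g⁻¹ * b * (ρ g⁻¹)⁻¹ * b⁻¹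
      rw [map_mul, h.compat, map_inv, inv_inv]
      simp only [mul_assoc]
    | one => convert C.one_mem; exact map_one ρ
    | mul x y _ _ hx hy => convert C.mul_mem hx hy; exact map_mul ρ x y
    | inv x _ hx => convert C.inv_mem hx; exact map_inv ρ x
  rcases key with e | ⟨-, -, h2, hfr, -⟩
  · have h1 : ∀ x ∈ comClosure a, ρ x = 1 := fun x hx => by
      have := hmem x hx
      rw [show C = ⊥ from e, Subgroup.mem_bot] at this
      exact congrArg Subtype.val this
    exact ⟨fun x hx => ⟨0, by rw [h1 x hx, one_pow]⟩,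
      fun x hx y hy => by rw [h1 x hx, h1 y hy, one_pow]⟩
  refine ⟨fun x hx => ?_, fun x hx y hy => ?_⟩
  · obtain ⟨k, hk⟩ := h2 ⟨_, hmem x hx⟩
    exact ⟨k, congrArg (fun z : C => ((z : X) : MulAut V)) hk⟩
  · haveI : Fact (2 : ℕ).Prime := ⟨Nat.prime_two⟩
    have hc := Grp.pGroup_pow_mem_frattini h2 ⟨_, hmem x hx⟩
    rw [hfr] at hc
    exact congrArg (fun z : C => ((z : X) : MulAut V))
      (Subgroup.mem_center_iff.1 hc ⟨_, hmem y hy⟩).symm

end Cfsg.Agent.Spor.FpfMod
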