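import Cfsg.Agent.Lib.Spor.FpfMod.Chain

/-!
Automorphisms of a finite abelian `p`-group that permute transitively the non-identity elements
of their commutator subgroup.
-/

set_option autoImplicit false
set_option linter.style.haveILetI false
set_option linter.unusedSectionVars false

universe u

namespace Cfsg.Agent.Spor.FpfMod

variable {T : Type u} [CommGroup T]

/-- The map `t ↦ σ(t) / t`. -/
def dHom (σ : MulAut T) : T →* T :=
  MonoidHom.mk' (fun t => σ t / t) fun x y => by rw [map_mul, mul_div_mul_comm]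

/-- The subgroup of commutators with `σ`. -/
def mv (σ : MulAut T) : Subgroup T := (dHom σ).range

/-- The subgroup of fixed points. -/
def fx (σ : MulAut T) : Subgroup T := (dHom σ).ker

theorem mem_fx {σ : MulAut T} {t : T} : t ∈ fx σ ↔ σ t = t := by
  show σ t / t = 1 ↔ _
  exact div_eq_one

theorem mem_mv {σ : MulAut T} {t : T} : t ∈ mv σ ↔ ∃ x, σ x / x = t := Iff.rfl

theorem apply_div_mem_mv (σ : MulAut T) (t : T) : σ t / t ∈ mv σ := ⟨t, rfl⟩

theorem apply_mem_mv_of_commute {σ τ : MulAut T} (h : Commute τ σ) {t : T} (ht : t ∈ mv σ) :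
    τ t ∈ mv σ := by
  obtain ⟨x, rfl⟩ := mem_mv.1 ht
  refine mem_mv.2 ⟨τ x, ?_⟩
  rw [map_div]
  exact congrArg (· / τ x) (congrArg (fun g : MulAut T => g x) h).symm

theorem apply_mem_fx_of_commute {σ τ : MulAut T} (h : Commute τ σ) {t : T} (ht : t ∈ fx σ) :
    τ t ∈ fx σ := by
  rw [mem_fx] at ht ⊢
  calc σ (τ t) = τ (σ t) := (congrArg (fun g : MulAut T => g t) h).symm
    _ = τ t := by rw [ht]

theorem mv_conj (g σ : MulAut T) : mv (g * σ * g⁻¹) = (mv σ).map g.toMonoidHom := by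
  ext t
  rw [Subgroup.mem_map]
  constructor
  · intro ht
    obtain ⟨x, rfl⟩ := mem_mv.1 ht
    refine ⟨_, apply_div_mem_mv σ (g⁻¹ x), ?_⟩
    show g (σ (g⁻¹ x) / g⁻¹ x) = g (σ (g⁻¹ x)) / x
    rw [map_div, MulAut.apply_inv_self]
  · rintro ⟨_, hs, rfl⟩
    obtain ⟨x, rfl⟩ := mem_mv.1 hs
    refine mem_mv.2 ⟨g x, ?_⟩
    show g (σ (g⁻¹ (g x))) / g x = g (σ x / x)
    rw [MulAut.inv_apply_self, map_div]

variable [Finite T] {p : ℕ} [Fact p.Prime]

/-- An automorphism of order prime to `p` fixes no non-trivial commutator. -/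
theorem eq_one_of_mem_mv_of_fixed (hT : IsPGroup p T) {σ : MulAut T} {m : ℕ} (hm : m.Coprime p)
    (hσ : σ ^ m = 1) {t : T} (ht : t ∈ mv σ) (hfix : σ t = t) : t = 1 := by
  obtain ⟨x, hx⟩ := mem_mv.1 ht
  have hx' : σ x = x * t := by rw [← hx, mul_div_cancel]
  have hpw : ∀ k : ℕ, (σ ^ k) x = x * t ^ k := by
    intro k
    induction k with
    | zero => simp
    | succ k ihk => rw [pow_succ', MulAut.mul_apply, ihk, map_mul, map_pow, hfix, hx', pow_succ',
        mul_assoc]
  have h1 := hpw m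
  rw [hσ, MulAut.one_apply, left_eq_mul] at h1
  obtain ⟨k, hk⟩ := hT t
  rw [← orderOf_eq_one_iff]
  exact Nat.eq_one_of_dvd_coprimes (Nat.Coprime.pow_right k hm)
    (orderOf_dvd_of_pow_eq_one h1) (orderOf_dvd_of_pow_eq_one hk)

/-- The commutators and the fixed points generate, for an automorphism of order prime to `p`. -/
theorem exists_mul_mv_fx (hT : IsPGroup p T) {σ : MulAut T} {m : ℕ} (hm : m.Coprime p)
    (hσ : σ ^ m = 1) (t : T) : ∃ v ∈ mv σ, ∃ w ∈ fx σ, v * w = t := by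
  let f : mv σ × fx σ →* T := (mv σ).subtype.coprod (fx σ).subtype
  have hf : Function.Injective f := by
    refine (injective_iff_map_eq_one f).2 fun ⟨v, w⟩ h => ?_
    have e : (v : T) = (w : T)⁻¹ := eq_inv_of_mul_eq_one_left h
    have hv : (v : T) = 1 := eq_one_of_mem_mv_of_fixed hT hm hσ v.2 (mem_fx.1 (e ▸ inv_mem w.2))
    refine Prod.ext (Subtype.ext hv) (Subtype.ext ?_)
    rw [hv] at e
    exact inv_eq_one.1 e.symm
  have hcard : Nat.card (mv σ × fx σ) = Nat.card T := by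
    rw [Nat.card_prod, Subgroup.card_eq_card_quotient_mul_card_subgroup (fx σ)]
    congr 1
    exact (Nat.card_congr (QuotientGroup.quotientKerEquivRange (dHom σ)).toEquiv).symm
  obtain ⟨⟨v, w⟩, h⟩ := ((Nat.bijective_iff_injective_and_card f).2 ⟨hf, hcard⟩).2 t
  exact ⟨v, v.2, w, w.2, h⟩

/-- Two automorphisms agreeing on the commutators and on the fixed points of a third one of order
prime to `p` are equal. -/
theorem ext_mv_fx (hT : IsPGroup p T) {σ : MulAut T} {m : ℕ} (hm : m.Coprime p) (hσ : σ ^ m = 1)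
    {τ τ' : MulAut T} (h1 : ∀ v ∈ mv σ, τ v = τ' v) (h2 : ∀ w ∈ fx σ, τ w = τ' w) : τ = τ' :=
  MulEquiv.ext fun t => by
    obtain ⟨v, hv, w, hw, rfl⟩ := exists_mul_mv_fx hT hm hσ t
    rw [map_mul, map_mul, h1 v hv, h2 w hw]

/-- A non-trivial automorphism of order prime to `p` whose powers permute transitively the
non-identity elements of its commutator subgroup. -/
structure Sing (p : ℕ) (y : MulAut T) : Prop where
  ne_one : y ≠ 1
  coprime : (orderOf y).Coprime p
  trans : ∀ u ∈ mv y, ∀ v ∈ mv y, u ≠ 1 → v ≠ 1 → ∃ k : ℕ, (y ^ k) u = v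

namespace Sing

variable {y : MulAut T}

theorem eq_one_of_fixed (hy : Sing p y) (hT : IsPGroup p T) {v : T} (hv : v ∈ mv y) (h : y v = v) :
    v = 1 :=
  eq_one_of_mem_mv_of_fixed hT hy.coprime (pow_orderOf_eq_one y) hv h

theorem ext (hy : Sing p y) (hT : IsPGroup p T) {τ τ' : MulAut T}
    (h1 : ∀ v ∈ mv y, τ v = τ' v) (h2 : ∀ w ∈ fx y, τ w = τ' w) : τ = τ' :=
  ext_mv_fx hT hy.coprime (pow_orderOf_eq_one y) h1 h2

theorem mv_ne_bot (hy : Sing p y) : mv y ≠ ⊥ := fun h => hy.ne_one <| MulEquiv.ext fun t => by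
  have := apply_div_mem_mv y t
  rw [h, Subgroup.mem_bot, div_eq_one] at this
  exact this

theorem pow_apply_mem (_ : Sing p y) (k : ℕ) {v : T} (hv : v ∈ mv y) : (y ^ k) v ∈ mv y :=
  apply_mem_mv_of_commute ((Commute.refl y).pow_left k) hv

/-- An element commuting with `y` that fixes a non-identity commutator fixes all of them. -/
theorem fixed_all (hy : Sing p y) {h : MulAut T} (hc : Commute h y) {u : T} (hu : u ∈ mv y)
    (hu1 : u ≠ 1) (hfix : h u = u) {v : T} (hv : v ∈ mv y) : h v = v := by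
  rcases eq_or_ne v 1 with rfl | hv1
  · exact map_one h
  obtain ⟨k, rfl⟩ := hy.trans u hu v hv hu1 hv1
  calc h ((y ^ k) u) = (y ^ k) (h u) := congrArg (fun g : MulAut T => g u) (hc.pow_right k)
    _ = (y ^ k) u := by rw [hfix]

theorem pow_eq_one (hy : Sing p y) (hT : IsPGroup p T) {k : ℕ} {u : T} (hu : u ∈ mv y)
    (hu1 : u ≠ 1) (hfix : (y ^ k) u = u) : y ^ k = 1 := by
  refine hy.ext hT (fun v hv => hy.fixed_all ((Commute.refl y).pow_left k) hu hu1 hfix hv)
    fun w hw => ?_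
  have hw' := mem_fx.1 hw
  clear hfix
  induction k with
  | zero => rfl
  | succ k ih => rw [pow_succ', MulAut.mul_apply, ih, MulAut.one_apply, hw', ]

theorem card_mv (hy : Sing p y) (hT : IsPGroup p T) :
    Nat.card (mv y) = orderOf y + 1 := by
  obtain ⟨u, hu, hu1⟩ := (mv y).bot_or_exists_ne_one.resolve_left hy.mv_ne_bot
  let f : Option (Fin (orderOf y)) → mv y := fun o =>
    o.elim 1 fun j => ⟨(y ^ (j : ℕ)) u, hy.pow_apply_mem _ hu⟩
  have hne : ∀ j : ℕ, (y ^ j) u ≠ 1 := fun j e => hu1 ((y ^ j).injective (e.trans (map_one _).symm))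
  have hf : Function.Bijective f := by
    refine ⟨?_, ?_⟩
    · have key : ∀ i j : Fin (orderOf y), (y ^ (i : ℕ)) u = (y ^ (j : ℕ)) u → (i : ℕ) ≤ j →
          i = j := by
        intro i j h hij
        have h1 : (y ^ ((j : ℕ) - i)) u = u := by
          refine (y ^ (i : ℕ)).injective ?_
          rw [← MulAut.mul_apply, ← pow_add, Nat.add_sub_cancel' hij, ← h]
        have h2 := orderOf_dvd_of_pow_eq_one (hy.pow_eq_one hT hu hu1 h1)
        have h3 := Nat.eq_zero_of_dvd_of_lt h2 (by omega)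
        exact Fin.ext (by omega)
      rintro (_ | i) (_ | j) h
      · rfl
      · exact absurd (congrArg Subtype.val h).symm (hne j)
      · exact absurd (congrArg Subtype.val h) (hne i)
      · rcases le_total (i : ℕ) j with hij | hij
        · rw [key i j (congrArg Subtype.val h) hij]
        · rw [key j i (congrArg Subtype.val h).symm hij]
    · rintro ⟨v, hv⟩
      rcases eq_or_ne v 1 with rfl | hv1
      · exact ⟨none, rfl⟩
      obtain ⟨k, hk⟩ := hy.trans u hu v hv hu1 hv1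
      refine ⟨some ⟨k % orderOf y, Nat.mod_lt _ (orderOf_pos y)⟩, Subtype.ext ?_⟩
      show (y ^ (k % orderOf y)) u = v
      rw [pow_mod_orderOf, hk]
  rw [← Nat.card_eq_of_bijective f hf, Nat.card_eq_fintype_card, Fintype.card_option,
    Fintype.card_fin]

theorem le_of_invariant (hy : Sing p y) {W : Subgroup T} (hW : ∀ w ∈ W, y w ∈ W) {u : T}
    (hu : u ∈ mv y) (huW : u ∈ W) (hu1 : u ≠ 1) : mv y ≤ W := by
  intro v hv
  rcases eq_or_ne v 1 with rfl | hv1
  · exact one_mem W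
  obtain ⟨k, rfl⟩ := hy.trans u hu v hv hu1 hv1
  clear hv hv1
  induction k with
  | zero => exact huW
  | succ k ih => rw [pow_succ', MulAut.mul_apply]; exact hW _ ih

/-- A subgroup invariant under `y` contains `mv y` or is fixed pointwise. -/
theorem le_or_fixed (hy : Sing p y) {W : Subgroup T} (hW : ∀ w ∈ W, y w ∈ W) :
    mv y ≤ W ∨ ∀ w ∈ W, y w = w := by
  by_cases h : ∀ w ∈ W, y w = w
  · exact Or.inr h
  push Not at h
  obtain ⟨w, hw, hne⟩ := h
  exact Or.inl (hy.le_of_invariant hW (apply_div_mem_mv y w) (W.div_mem (hW w hw) hw)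
    fun e => hne (div_eq_one.1 e))

theorem conj (hy : Sing p y) (g : MulAut T) : Sing p (g * y * g⁻¹) where
  ne_one h := hy.ne_one (conj_eq_one_iff.1 h)
  coprime := by
    rw [show g * y * g⁻¹ = MulAut.conj g y from rfl, MulEquiv.orderOf_eq]
    exact hy.coprime
  trans u hu v hv hu1 hv1 := by
    rw [mv_conj] at hu hv
    obtain ⟨u, hu, rfl⟩ := hu
    obtain ⟨v, hv, rfl⟩ := hv
    obtain ⟨k, hk⟩ := hy.trans u hu v hv (fun e => hu1 (by rw [e, map_one]))
      (fun e => hv1 (by rw [e, map_one]))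
    refine ⟨k, ?_⟩
    rw [show (g * y * g⁻¹) ^ k = g * y ^ k * g⁻¹ by rw [← MulAut.conj_apply, ← map_pow]; rfl]
    show g ((y ^ k) (g⁻¹ (g u))) = g v
    rw [MulAut.inv_apply_self, hk]

theorem orderOf_conj (_ : Sing p y) (g : MulAut T) : orderOf (g * y * g⁻¹) = orderOf y := by
  rw [show g * y * g⁻¹ = MulAut.conj g y from rfl, MulEquiv.orderOf_eq]

end Sing

end Cfsg.Agent.Spor.FpfMod
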